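/-
Quadratic fields with adjoint conjugation in a standard frame of the symplectic space.
-/
import Cfsg.Agent.Lib.IsotropicSymp
import Cfsg.Agent.Lib.FiniteForms.Congr
import Cfsg.Agent.Lib.Aschbacher.HermField
import Cfsg.Agent.Lib.TensorElusive.SympTools
import Cfsg.Prelude.Def_GeometricClasses

set_option autoImplicit false
set_option linter.unusedSectionVars false

namespace CfsgLib.FieldSpElusive

open Module Matrix CfsgLib.IsotropicCount

universe u

variable {F : Type u} [Field F] [Fintype F] {d : ℕ}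

local notation "V" => (Fin d ⊕ Fin d → F)
local notation "M2d" => Matrix (Fin d ⊕ Fin d) (Fin d ⊕ Fin d) F

/-- An anti-self-adjoint square root of a non-square. -/
structure AntiField (θ : Matrix (Fin d ⊕ Fin d) (Fin d ⊕ Fin d) F) (c : F) : Prop where
  two : (2 : F) ≠ 0
  adj : ∀ u v, sympB d F (θ *ᵥ u) v = -sympB d F u (θ *ᵥ v)
  sq : θ * θ = c • 1
  nsq : ¬ IsSquare c

theorem swap (u v : V) : sympB d F v u = -sympB d F u v := by
  have h := sympB_alt (u + v)
  simp only [map_add, LinearMap.add_apply, sympB_alt u, sympB_alt v, zero_add, add_zero] at h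
  linear_combination h

theorem AntiField.sq_mulVec {θ : M2d} {c : F} (A : AntiField θ c) (u : V) : θ *ᵥ (θ *ᵥ u) = c • u := by
  rw [Matrix.mulVec_mulVec, A.sq, Matrix.smul_mulVec, Matrix.one_mulVec]

theorem AntiField.ne_zero {θ : M2d} {c : F} (A : AntiField θ c) : c ≠ 0 := fun h => A.nsq (h ▸ IsSquare.zero)

theorem AntiField.symm' {θ : M2d} {c : F} (A : AntiField θ c) (u v : V) :
    sympB d F u (θ *ᵥ v) = sympB d F v (θ *ᵥ u) := by
  rw [swap (θ *ᵥ u) v, A.adj, neg_neg]

theorem exists_unit_vector {θ : M2d} {c : F} (A : AntiField θ c) (W : Submodule F V) (hW : ∀ u ∈ W, θ *ᵥ u ∈ W)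
    (hnd : ∀ u ∈ W, (∀ v ∈ W, sympB d F u v = 0) → u = 0) (h0 : W ≠ ⊥) :
    ∃ v ∈ W, sympB d F v (θ *ᵥ v) = 1 := by
  obtain ⟨w, hw, hw0⟩ := Submodule.exists_mem_ne_zero_of_ne_bot h0
  obtain ⟨u, hu, hua⟩ : ∃ u ∈ W, sympB d F u (θ *ᵥ u) ≠ 0 := by
    by_contra hc
    push Not at hc
    refine hw0 (hnd w hw fun v hv => ?_)
    have key : ∀ x ∈ W, sympB d F w (θ *ᵥ x) = 0 := fun x hx => by
      have h := hc (w + x) (W.add_mem hw hx)
      rw [Matrix.mulVec_add, map_add, map_add, LinearMap.add_apply, LinearMap.add_apply, hc w hw, hc x hx,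
        A.symm' x w] at h
      exact (mul_eq_zero.mp (show (2 : F) * sympB d F w (θ *ᵥ x) = 0 by linear_combination h)).resolve_left A.two
    have h := key _ (hW v hv)
    rw [A.sq_mulVec, map_smul, smul_eq_mul] at h
    exact (mul_eq_zero.mp h).resolve_left A.ne_zero
  obtain ⟨a, b, hab⟩ := CfsgLib.FiniteForms.exists_rep_one A.two hua (neg_ne_zero.mpr (mul_ne_zero A.ne_zero hua))
  refine ⟨a • u + b • θ *ᵥ u, W.add_mem (W.smul_mem a hu) (W.smul_mem b (hW u hu)), ?_⟩
  rw [← hab, Matrix.mulVec_add, Matrix.mulVec_smul, Matrix.mulVec_smul, A.sq_mulVec]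
  simp only [map_add, map_smul, LinearMap.add_apply, LinearMap.smul_apply, smul_eq_mul, sympB_alt u,
    sympB_alt (θ *ᵥ u), swap u (θ *ᵥ u)]
  ring

/-- An orthonormal frame of an invariant non-degenerate subspace. -/
theorem exists_frame {θ : M2d} {c : F} (A : AntiField θ c) : ∀ (n : ℕ) (W : Submodule F V), finrank F W = 2 * n →
    (∀ u ∈ W, θ *ᵥ u ∈ W) → (∀ u ∈ W, (∀ v ∈ W, sympB d F u v = 0) → u = 0) →
    ∃ e : Fin n → V, (∀ i, e i ∈ W) ∧ (∀ i j, sympB d F (e i) (e j) = 0) ∧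
      ∀ i j, sympB d F (e i) (θ *ᵥ e j) = if i = j then 1 else 0 := by
  intro n
  induction n with
  | zero => exact fun W _ _ _ => ⟨Fin.elim0, fun i => i.elim0, fun i => i.elim0, fun i => i.elim0⟩
  | succ n ih =>
    intro W hdim hW hnd
    obtain ⟨v, hv, hv1⟩ := exists_unit_vector A W hW hnd (fun h => by rw [h, finrank_bot] at hdim; omega)
    let L : W →ₗ[F] F × F := ((sympB d F v).prod (sympB d F (θ *ᵥ v))).comp W.subtype
    have hL : LinearMap.range L = ⊤ := by
      refine eq_top_iff.mpr fun ⟨a, b⟩ _ => ⟨⟨a • θ *ᵥ v + (-b) • v, W.add_mem (W.smul_mem _ (hW v hv))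
        (W.smul_mem _ hv)⟩, ?_⟩
      simp [L, hv1, swap v (θ *ᵥ v), sympB_alt v, sympB_alt (θ *ᵥ v)]
    have hk : finrank F ((LinearMap.ker L).map W.subtype) = 2 * n := by
      have h := LinearMap.finrank_range_add_finrank_ker L
      rw [hL, finrank_top, Module.finrank_prod, Module.finrank_self, hdim] at h
      rw [Submodule.finrank_map_subtype_eq]
      omega
    have hmem : ∀ u, u ∈ (LinearMap.ker L).map W.subtype ↔
        u ∈ W ∧ sympB d F v u = 0 ∧ sympB d F (θ *ᵥ v) u = 0 := fun u => by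
      constructor
      · rintro ⟨⟨u, hu⟩, hu', rfl⟩
        exact ⟨hu, congrArg Prod.fst hu', congrArg Prod.snd hu'⟩
      · rintro ⟨hu, h1, h2⟩
        exact ⟨⟨u, hu⟩, Prod.ext h1 h2, rfl⟩
    obtain ⟨e, he, he0, he1⟩ := ih _ hk (fun u hu => by
        obtain ⟨hu, h1, h2⟩ := (hmem u).mp hu
        refine (hmem _).mpr ⟨hW u hu, ?_, ?_⟩
        · rw [← neg_eq_zero, ← A.adj, h2]
        · rw [A.adj, A.sq_mulVec, map_smul, h1, smul_zero, neg_zero])
      (fun u hu hperp => by
        obtain ⟨hu, h1, h2⟩ := (hmem u).mp hu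
        refine hnd u hu fun w hw => ?_
        have h := hperp (w - sympB d F v w • θ *ᵥ v + sympB d F (θ *ᵥ v) w • v) ((hmem _).mpr
          ⟨W.add_mem (W.sub_mem hw (W.smul_mem _ (hW v hv))) (W.smul_mem _ hv), by
            simp [hv1, sympB_alt v], by
            simp [sympB_alt (θ *ᵥ v), swap v (θ *ᵥ v), hv1]⟩)
        rw [map_add, map_sub, map_smul, map_smul, swap v u, swap (θ *ᵥ v) u, h1, h2] at h
        simpa using h)
    have hev : ∀ i, sympB d F v (e i) = 0 ∧ sympB d F (θ *ᵥ v) (e i) = 0 := fun i => ((hmem _).mp (he i)).2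
    refine ⟨Fin.cons v e, Fin.cases hv fun i => ((hmem _).mp (he i)).1, ?_, ?_⟩
    · refine Fin.cases (Fin.cases ?_ fun j => ?_) fun i => Fin.cases ?_ fun j => ?_
      · simp [sympB_alt v]
      · simp [(hev j).1]
      · simp [swap v (e i), (hev i).1]
      · simp [he0]
    · refine Fin.cases (Fin.cases ?_ fun j => ?_) fun i => Fin.cases ?_ fun j => ?_
      · simp [hv1]
      · simp only [Fin.cons_zero, Fin.cons_succ]
        rw [if_neg (Fin.succ_ne_zero j).symm, ← neg_eq_zero, ← A.adj, (hev j).2]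
      · simp only [Fin.cons_zero, Fin.cons_succ]
        rw [if_neg (Fin.succ_ne_zero i), swap (θ *ᵥ v) (e i), (hev i).2, neg_zero]
      · simp [he1]

/-- The standard square root. -/
def stdRoot (d : ℕ) (c : F) : Matrix (Fin d ⊕ Fin d) (Fin d ⊕ Fin d) F := Matrix.fromBlocks 0 1 (c • 1) 0

/-- Every such square root is symplectically conjugate to the standard one. -/
theorem exists_standard {θ : M2d} {c : F} (A : AntiField θ c) :
    ∃ P : Matrix.symplecticGroup (Fin d) F, θ * (P : M2d) = (P : M2d) * stdRoot d c := by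
  obtain ⟨e, -, he0, he1⟩ := exists_frame A d ⊤ (by
    rw [finrank_top, Module.finrank_pi, Fintype.card_sum, Fintype.card_fin, two_mul])
    (fun _ _ => trivial) (fun u _ hu => sympB_nondeg.1 u fun v => hu v trivial)
  let col : Fin d ⊕ Fin d → V := Sum.elim (fun j => θ *ᵥ e j) e
  let P : M2d := Matrix.of fun k l => col l k
  have hP : ∀ l, P *ᵥ Pi.single l 1 = col l := fun l => by
    funext k
    simp [P, Matrix.mulVec_single_one]
  refine ⟨⟨P, SymplecticGroup.mem_iff'.mpr (Matrix.ext fun i j => ?_)⟩, ?_⟩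
  · have h : (Pᵀ * Matrix.J (Fin d) F * P) i j = sympB d F (col i) (col j) := by
      rw [← hP i, ← hP j, sympB, Matrix.toBilin'_apply']
      rw [Matrix.mulVec_mulVec, ← Matrix.vecMul_transpose P (Pi.single i 1), ← Matrix.dotProduct_mulVec,
        Matrix.mulVec_mulVec, Matrix.mulVec_single_one, single_dotProduct, one_mul, Matrix.mul_assoc]
      rfl
    rw [h]
    rcases i with i | i <;> rcases j with j | j
    · simp only [col, Sum.elim_inl]
      rw [A.adj, A.sq_mulVec, map_smul, he0, smul_zero, neg_zero]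
      simp [Matrix.J]
    · simp only [col, Sum.elim_inl, Sum.elim_inr]
      rw [A.adj, he1]
      simp [Matrix.J, Matrix.one_apply]
    · simp only [col, Sum.elim_inl, Sum.elim_inr, he1]
      simp [Matrix.J, Matrix.one_apply]
    · simp only [col, Sum.elim_inr, he0]
      simp [Matrix.J]
  · refine Matrix.ext_of_mulVec_single fun l => ?_
    show (θ * P) *ᵥ _ = (P * stdRoot d c) *ᵥ _
    rw [← Matrix.mulVec_mulVec, ← Matrix.mulVec_mulVec, hP]
    rcases l with l | l
    · rw [show stdRoot d c *ᵥ Pi.single (Sum.inl l) 1 = c • (Pi.single (Sum.inr l) 1 : V) by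
        funext k
        rcases k with k | k <;> simp [stdRoot, Matrix.mulVec_single_one, Matrix.one_apply, Pi.single_apply],
        Matrix.mulVec_smul, hP]
      simp [col, A.sq_mulVec]
    · rw [show stdRoot d c *ᵥ Pi.single (Sum.inr l) 1 = (Pi.single (Sum.inl l) 1 : V) by
        funext k
        rcases k with k | k <;> simp [stdRoot, Matrix.mulVec_single_one, Matrix.one_apply, Pi.single_apply], hP]
      simp [col]

/-- The field subalgebra in the form used below. -/
theorem exists_antiField (h2 : (2 : F) ≠ 0) (hd : 0 < d) {K : Subalgebra F M2d}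
    (hK : Cfsg.Geo.IsFieldSubalgebra 2 K) (hac : Cfsg.Geo.IsAdjointClosedFor (Cfsg.sympForm d F) K)
    (hnsa : ¬ Cfsg.Geo.IsSelfAdjointFor (Cfsg.sympForm d F) K) :
    ∃ θ c, θ ∈ K ∧ AntiField θ c ∧ ∀ k ∈ K, ∃ α β : F, k = α • 1 + β • θ := by
  have : Nonempty (Fin d ⊕ Fin d) := ⟨Sum.inl ⟨0, hd⟩⟩
  have hone : (1 : M2d) ≠ 0 := one_ne_zero
  obtain ⟨θ₀, hθ₀, hθ₀1⟩ : ∃ θ ∈ K, θ ∉ Submodule.span F {(1 : M2d)} := by
    by_contra hc
    push Not at hc
    have h1 : K.toSubmodule ≤ Submodule.span F {(1 : M2d)} := hc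
    have h2 := Submodule.finrank_mono h1
    rw [Subalgebra.finrank_toSubmodule, hK.finrank_eq, finrank_span_singleton hone] at h2
    omega
  have hli : LinearIndependent F ![(1 : M2d), θ₀] := by
    refine (LinearIndependent.pair_iff' hone).mpr fun a ha => hθ₀1 ?_
    exact Submodule.mem_span_singleton.mpr ⟨a, ha⟩
  have hspan₀ : ∀ k ∈ K, ∃ α β : F, k = α • (1 : M2d) + β • θ₀ := fun k hk => by
    have heq : Submodule.span F (Set.range ![(1 : M2d), θ₀]) = K.toSubmodule := by
      refine Submodule.eq_of_le_of_finrank_le (Submodule.span_le.2 ?_) ?_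
      · rintro _ ⟨i, rfl⟩
        fin_cases i
        exacts [K.one_mem, hθ₀]
      · rw [finrank_span_eq_card hli, Subalgebra.finrank_toSubmodule, hK.finrank_eq]; rfl
    obtain ⟨r, hr⟩ := (Submodule.mem_span_range_iff_exists_fun F).1
      (heq.ge ((Subalgebra.mem_toSubmodule K).2 hk))
    exact ⟨r 0, r 1, by rw [← hr, Fin.sum_univ_two]; rfl⟩
  obtain ⟨θ', hθ', hadj⟩ := hac θ₀ hθ₀
  have hadj' : ∀ u v, sympB d F (θ₀ *ᵥ u) v = sympB d F u (θ' *ᵥ v) := fun u v => by
    rw [sympB_apply, sympB_apply]; exact hadj u v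
  have hswap' : ∀ u v, sympB d F (θ' *ᵥ u) v = sympB d F u (θ₀ *ᵥ v) := fun u v => by
    rw [swap v (θ' *ᵥ u), ← hadj', swap u (θ₀ *ᵥ v), neg_neg]
  -- the anti-self-adjoint part
  set θ := θ₀ - θ' with hθdef
  have hθK : θ ∈ K := K.sub_mem hθ₀ hθ'
  have hθ0 : θ ≠ 0 := fun h => hnsa fun k hk u v => by
    obtain ⟨α, β, rfl⟩ := hspan₀ k hk
    rw [← sympB_apply, ← sympB_apply]
    simp only [sub_eq_zero.mp h, Matrix.add_mulVec, Matrix.smul_mulVec, Matrix.one_mulVec, map_add, map_smul,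
      LinearMap.add_apply, LinearMap.smul_apply, smul_eq_mul]
    rw [← hadj' u v, sub_eq_zero.mp h]
  have hanti : ∀ u v, sympB d F (θ *ᵥ u) v = -sympB d F u (θ *ᵥ v) := fun u v => by
    simp only [hθdef, Matrix.sub_mulVec, map_sub, LinearMap.sub_apply, hadj', hswap']
    ring
  have hθ1 : ∀ a : F, a • (1 : M2d) ≠ θ := fun a ha => by
    obtain ⟨i, j, hij⟩ : ∃ i j, sympB d F (Pi.single i 1) (Pi.single j 1) ≠ 0 :=
      ⟨Sum.inr ⟨0, hd⟩, Sum.inl ⟨0, hd⟩, by
        rw [sympB, Matrix.toBilin'_single]; simp [Matrix.J]⟩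
    have h := hanti (Pi.single i 1) (Pi.single j 1)
    simp only [← ha, Matrix.smul_mulVec, Matrix.one_mulVec, map_smul, LinearMap.smul_apply, smul_eq_mul] at h
    have ha0 : a = 0 := by
      have h3 : (2 * sympB d F (Pi.single i 1) (Pi.single j 1)) * a = 0 := by linear_combination h
      exact (mul_eq_zero.mp h3).resolve_left (mul_ne_zero h2 hij)
    exact hθ0 (by rw [← ha, ha0, zero_smul])
  have hli' : LinearIndependent F ![(1 : M2d), θ] := (LinearIndependent.pair_iff' hone).mpr hθ1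
  have hspan : ∀ k ∈ K, ∃ α β : F, k = α • (1 : M2d) + β • θ := fun k hk => by
    obtain ⟨a, b, hab⟩ := hspan₀ θ hθK
    obtain ⟨α, β, rfl⟩ := hspan₀ k hk
    have hb : b ≠ 0 := fun hb => hθ1 a (by rw [hab, hb, zero_smul, add_zero])
    exact ⟨α - β / b * a, β / b, by rw [hab, smul_add, smul_smul, smul_smul, div_mul_cancel₀ _ hb]; module⟩
  obtain ⟨α, β, hαβ⟩ := hspan _ (K.mul_mem hθK hθK)
  have hsym : ∀ u v, sympB d F ((θ * θ) *ᵥ u) v = sympB d F u ((θ * θ) *ᵥ v) := fun u v => by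
    rw [← Matrix.mulVec_mulVec, ← Matrix.mulVec_mulVec, hanti, hanti, neg_neg]
  have hβ : β = 0 := by
    by_contra hβ
    refine hθ0 (Matrix.ext_of_mulVec_single fun i => ?_)
    rw [Matrix.zero_mulVec]
    refine sympB_nondeg.1 _ fun v => ?_
    have h := hsym (Pi.single i 1) v
    simp only [hαβ, Matrix.add_mulVec, Matrix.smul_mulVec, Matrix.one_mulVec, map_add, map_smul,
      LinearMap.add_apply, LinearMap.smul_apply, smul_eq_mul] at h
    rw [show sympB d F (Pi.single i 1) (θ *ᵥ v) = -sympB d F (θ *ᵥ Pi.single i 1) v by rw [hanti, neg_neg]] at h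
    exact (mul_eq_zero.mp (show (2 * β) * sympB d F (θ *ᵥ Pi.single i 1) v = 0 by linear_combination h)).resolve_left
      (mul_ne_zero h2 hβ)
  refine ⟨θ, α, hθK, ⟨h2, hanti, by rw [hαβ, hβ, zero_smul, add_zero], ?_⟩, hspan⟩
  rintro ⟨s, hs⟩
  have hmul : (θ - s • (1 : M2d)) * (θ + s • (1 : M2d)) = 0 := by
    simp only [sub_mul, mul_add, Matrix.smul_mul, Matrix.mul_smul, one_mul, mul_one, hαβ, hβ, hs]
    module
  have h0 : θ - s • (1 : M2d) ≠ 0 := fun h => hθ1 s (sub_eq_zero.mp h).symm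
  have h1 := CfsgLib.Aschbacher.fieldSubalgebra_mul_eq_zero hK (K.sub_mem hθK (K.smul_mem K.one_mem s)) hmul h0
  exact hθ1 (-s) (by rw [neg_smul]; exact (eq_neg_of_add_eq_zero_left h1).symm)

/-- Elements commuting or anticommuting with the square root normalise the field. -/
theorem mem_normalizer {K : Subalgebra F M2d} {θ : M2d} (hθ : θ ∈ K)
    (hspan : ∀ k ∈ K, ∃ α β : F, k = α • 1 + β • θ) {g : GL (Fin d ⊕ Fin d) F} {s : F} (hs : s * s = 1)
    (hg : (g : M2d) * θ = s • (θ * (g : M2d))) : g ∈ Cfsg.Geo.subalgebraNormalizer K := by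
  have hgi : (g : M2d) * θ * ((g⁻¹ : GL (Fin d ⊕ Fin d) F) : M2d) = s • θ := by
    rw [hg, Matrix.smul_mul, Matrix.mul_assoc, Units.mul_inv, Matrix.mul_one]
  have hfwd : ∀ α β : F, (g : M2d) * (α • 1 + β • θ) * ((g⁻¹ : GL (Fin d ⊕ Fin d) F) : M2d) = α • 1 + (β * s) • θ :=
    fun α β => by
      rw [mul_add, add_mul, Matrix.mul_smul, Matrix.mul_smul, mul_one, Matrix.smul_mul, Matrix.smul_mul, Units.mul_inv,
        hgi, smul_smul]
  intro k
  refine ⟨fun hk => ?_, fun hk => ?_⟩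
  · obtain ⟨α, β, rfl⟩ := hspan k hk
    rw [hfwd]
    exact K.add_mem (K.smul_mem K.one_mem _) (K.smul_mem hθ _)
  · obtain ⟨α, β, hab⟩ := hspan _ hk
    have h : k = α • 1 + (β * s) • θ := by
      refine g.isUnit.mul_left_cancel ((g⁻¹).isUnit.mul_right_cancel ?_)
      rw [hab, hfwd, mul_assoc β, hs, mul_one]
    rw [h]
    exact K.add_mem (K.smul_mem K.one_mem _) (K.smul_mem hθ _)

/-- Conversely, an element of odd scalar period in the normaliser commutes with the square root. -/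
theorem commute_of_mem {K : Subalgebra F M2d} {θ : M2d} {c : F} (A : AntiField θ c) (hd : 0 < d) (hθ : θ ∈ K)
    (hspan : ∀ k ∈ K, ∃ α β : F, k = α • 1 + β • θ) {g : GL (Fin d ⊕ Fin d) F}
    (hg : g ∈ Cfsg.Geo.subalgebraNormalizer K) {r : ℕ} (hr : Odd r) {z : F} (hz : ((g ^ r : GL (Fin d ⊕ Fin d) F) : M2d) = z • 1) :
    (g : M2d) * θ = θ * (g : M2d) := by
  have : Nonempty (Fin d ⊕ Fin d) := ⟨Sum.inl ⟨0, hd⟩⟩
  set G := (g : M2d)
  set Gi := ((g⁻¹ : GL (Fin d ⊕ Fin d) F) : M2d)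
  have hGG : Gi * G = 1 := Units.inv_mul _
  obtain ⟨α, β, hab⟩ := hspan _ ((hg θ).mp hθ)
  have hone : (1 : M2d) ≠ 0 := one_ne_zero
  have hθ1 : ∀ a : F, a • (1 : M2d) ≠ θ := fun a ha => by
    have h := A.sq
    rw [← ha, Matrix.smul_mul, Matrix.mul_smul, Matrix.one_mul, smul_smul] at h
    exact A.nsq ⟨a, (smul_left_injective F hone h).symm⟩
  have hli := (LinearIndependent.pair_iff' hone).mpr hθ1
  have hsq : (α • (1 : M2d) + β • θ) * (α • (1 : M2d) + β • θ) = c • 1 := by
    rw [← hab, show G * θ * Gi * (G * θ * Gi) = G * (θ * (Gi * G) * θ) * Gi by simp only [mul_assoc], hGG, mul_one,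
      A.sq, Matrix.mul_smul, mul_one, Matrix.smul_mul, Units.mul_inv]
  obtain ⟨h1, h2⟩ := LinearIndependent.pair_iff.mp hli (α * α + c * (β * β) - c) (2 * (α * β)) (by
    simp only [add_mul, mul_add, Matrix.smul_mul, Matrix.mul_smul, one_mul, mul_one, A.sq] at hsq
    linear_combination (norm := module) hsq)
  have hα : α = 0 := by
    rcases mul_eq_zero.mp ((mul_eq_zero.mp h2).resolve_left A.two) with h | h
    · exact h
    · exact absurd ⟨α, by subst h; linear_combination -h1⟩ A.nsq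
  have hβ : β * β = 1 := by
    subst hα
    have h : c * (β * β - 1) = 0 := by linear_combination h1
    exact sub_eq_zero.mp ((mul_eq_zero.mp h).resolve_left A.ne_zero)
  have hGθ : G * θ = β • (θ * G) := by
    rw [hα, zero_smul, zero_add] at hab
    have h := congrArg (· * G) hab
    simpa only [G, mul_assoc, Units.inv_mul, mul_one, Matrix.smul_mul] using h
  have hpow : ∀ k : ℕ, G ^ k * θ = β ^ k • (θ * G ^ k) := fun k => by
    induction k with
    | zero => simp
    | succ k ih =>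
      rw [pow_succ, mul_assoc, hGθ, Matrix.mul_smul, ← mul_assoc, ih, Matrix.smul_mul, smul_smul, ← pow_succ', mul_assoc]
  have hr' := hpow r
  rw [← Units.val_pow_eq_pow_val, hz] at hr'
  have hz0 : z ≠ 0 := fun h => by
    rw [h, zero_smul] at hz
    exact (Units.ne_zero (g ^ r)) hz
  have hβr : β ^ r = β := by
    obtain ⟨k, rfl⟩ := hr
    rw [pow_succ, pow_mul, pow_two, hβ, one_pow, one_mul]
  rw [hβr, Matrix.smul_mul, Matrix.mul_smul, one_mul, mul_one, smul_smul] at hr'
  have hθne : θ ≠ 0 := fun h => hθ1 0 (by rw [h, zero_smul])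
  have hβ1 : β = 1 := by
    have h := smul_left_injective F hθne hr'
    exact (mul_right_cancel₀ hz0 (by rw [one_mul]; exact h)).symm
  rw [hGθ, hβ1, one_smul]

end CfsgLib.FieldSpElusive
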