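/-
Symplectic elements of odd prime order commuting with no anti-self-adjoint quadratic field.
-/
import Cfsg.Agent.Lib.FieldSpElusive.Standard
import Cfsg.Agent.Lib.TensorElusive.SympNeg

set_option autoImplicit false
set_option linter.unusedSectionVars false

namespace CfsgLib.FieldSpElusive

open Polynomial Module Matrix CfsgLib.IsotropicCount CfsgLib.MaxSub.Elusive

universe u

variable {F : Type u} [Field F] [Fintype F] {p r d : ℕ} [Fact p.Prime] [CharP F p] [Fact r.Prime]

local notation "V" => (Fin d ⊕ Fin d → F)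
local notation "M2d" => Matrix (Fin d ⊕ Fin d) (Fin d ⊕ Fin d) F

/-- An element of period `r` without conjugates in the normaliser. -/
def SpBad (K : Subalgebra F (Matrix (Fin d ⊕ Fin d) (Fin d ⊕ Fin d) F)) (r : ℕ) : Prop :=
  ∃ x ∈ Cfsg.spGL d F, (∃ z : F, ((x ^ r : GL (Fin d ⊕ Fin d) F) : M2d) = z • 1) ∧
    (∀ z : F, (x : M2d) ≠ z • 1) ∧ ∀ g ∈ Cfsg.spGL d F, g⁻¹ * x * g ∉ Cfsg.Geo.subalgebraNormalizer K

theorem spBad_of {K : Subalgebra F M2d} {θ : M2d} {c : F} (A : AntiField θ c) (hd : 0 < d) (hθ : θ ∈ K)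
    (hspan : ∀ k ∈ K, ∃ α β : F, k = α • 1 + β • θ) (hr : Odd r) (M : Matrix.symplecticGroup (Fin d) F) {z : F}
    (hpow : (M : M2d) ^ r = z • 1) (hkey : ∀ a : M2d, AntiField a c → (M : M2d) * a ≠ a * (M : M2d)) :
    SpBad K r := by
  refine ⟨CfsgLib.TensorElusive.glS M, CfsgLib.TensorElusive.glS_mem M, ⟨z, by rw [Units.val_pow_eq_pow_val]; exact hpow⟩,
    fun w hw => hkey θ A ?_, fun g hg hmem => ?_⟩
  · rw [show (M : M2d) = w • 1 from hw, Matrix.smul_mul, Matrix.mul_smul, one_mul, mul_one]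
  set x := CfsgLib.TensorElusive.glS M
  have hxr : ((x ^ r : GL (Fin d ⊕ Fin d) F) : M2d) = z • 1 := by rw [Units.val_pow_eq_pow_val]; exact hpow
  have hgi : g⁻¹ ∈ Cfsg.spGL d F := inv_mem hg
  set G := (g : M2d)
  set Gi := ((g⁻¹ : GL (Fin d ⊕ Fin d) F) : M2d)
  have hGG : G * Gi = 1 := Units.mul_inv _
  have hGG' : Gi * G = 1 := Units.inv_mul _
  have hc := commute_of_mem A hd hθ hspan hmem hr (z := z) (by
    have h : (g⁻¹ * x * g) ^ r = g⁻¹ * x ^ r * g := by simpa using conj_pow (a := g⁻¹) (b := x) (i := r)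
    rw [h, Units.val_mul, Units.val_mul, hxr, Matrix.mul_smul, mul_one, Matrix.smul_mul, Units.inv_mul])
  refine hkey (G * θ * Gi) ⟨A.two, fun u v => ?_, ?_, A.nsq⟩ ?_
  · have h1 : ∀ (y : GL (Fin d ⊕ Fin d) F), y ∈ Cfsg.spGL d F → ∀ a b : V,
        sympB d F ((y : M2d) *ᵥ a) ((y : M2d) *ᵥ b) = sympB d F a b := fun y hy a b => by
      rw [sympB_apply, sympB_apply]; exact hy a b
    have hback : ∀ a : V, G *ᵥ (Gi *ᵥ a) = a := fun a => by rw [Matrix.mulVec_mulVec, hGG, Matrix.one_mulVec]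
    rw [← Matrix.mulVec_mulVec, ← Matrix.mulVec_mulVec, ← Matrix.mulVec_mulVec, ← Matrix.mulVec_mulVec]
    conv_lhs => rw [← hback v, h1 g hg]
    conv_rhs => rw [← hback u, h1 g hg]
    exact A.adj _ _
  · rw [show G * θ * Gi * (G * θ * Gi) = G * (θ * (Gi * G) * θ) * Gi by simp only [mul_assoc], hGG', mul_one, A.sq,
      Matrix.mul_smul, mul_one, Matrix.smul_mul, hGG]
  · have h : Gi * (M : M2d) * G * θ = θ * (Gi * (M : M2d) * G) := hc
    calc (M : M2d) * (G * θ * Gi) = G * (Gi * (M : M2d) * G * θ) * Gi := by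
          simp only [← mul_assoc, hGG, one_mul]
      _ = G * (θ * (Gi * (M : M2d) * G)) * Gi := by rw [h]
      _ = G * θ * Gi * (M : M2d) := by
          rw [show G * (θ * (Gi * (M : M2d) * G)) * Gi = G * θ * Gi * (M : M2d) * (G * Gi) by simp only [mul_assoc],
            hGG, mul_one]

/-- Kernels of polynomials in a matrix commuting with the field are even-dimensional. -/
theorem even_rank {a : M2d} {c : F} (A : AntiField a c) {M : M2d} (hM : M * a = a * M) (g : F[X]) :
    Even (aeval M g).rank := by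
  classical
  set Q := aeval M g with hQdef
  have hQa : Q * a = a * Q := (Algebra.commute_of_mem_adjoin_singleton_of_commute
    (Polynomial.aeval_mem_adjoin_singleton F M) (show Commute a M from hM.symm)).eq.symm
  set W := LinearMap.range Q.mulVecLin
  have hW : ∀ v ∈ W, a.mulVecLin v ∈ W := by
    rintro _ ⟨v, rfl⟩
    exact ⟨a *ᵥ v, by simp only [Matrix.mulVecLin_apply, Matrix.mulVec_mulVec, hQa]⟩
  let T : W →ₗ[F] W := a.mulVecLin.restrict hW
  have hT : T * T = c • 1 := LinearMap.ext fun v => Subtype.ext (by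
    show a *ᵥ (a *ᵥ (v : V)) = c • (v : V)
    exact A.sq_mulVec _)
  have hdet := congrArg LinearMap.det hT
  rw [map_mul, LinearMap.det_smul, map_one, mul_one] at hdet
  rcases Nat.even_or_odd (finrank F W) with h | ⟨k, hk⟩
  · exact h
  · exfalso
    rw [hk] at hdet
    refine A.nsq ⟨LinearMap.det T / c ^ k, ?_⟩
    field_simp [A.ne_zero]
    rw [sq (LinearMap.det T), hdet]
    ring

theorem spBad_of_odd {K : Subalgebra F M2d} {θ : M2d} {c : F} (A : AntiField θ c) (hd : 0 < d) (hθ : θ ∈ K)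
    (hspan : ∀ k ∈ K, ∃ α β : F, k = α • 1 + β • θ) (hr : Odd r) (M : Matrix.symplecticGroup (Fin d) F) {z : F}
    (hpow : (M : M2d) ^ r = z • 1) {g : F[X]} (hg : Odd (aeval (M : M2d) g).rank) : SpBad K r :=
  spBad_of A hd hθ hspan hr M hpow fun _ Aa h => (Nat.not_even_iff_odd.mpr hg) (even_rank Aa h g)

/-- A transvection. -/
theorem spBad_char {K : Subalgebra F M2d} {θ : M2d} {c : F} (A : AntiField θ c) (hd : 0 < d) (hθ : θ ∈ K)
    (hspan : ∀ k ∈ K, ∃ α β : F, k = α • 1 + β • θ) (hp : Odd p) : SpBad K p := by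
  classical
  let j0 : Fin d := ⟨0, hd⟩
  let S : Matrix (Fin d) (Fin d) F := Matrix.single j0 j0 1
  have hmem : Matrix.fromBlocks 1 S 0 1 ∈ Matrix.symplecticGroup (Fin d) F := by
    rw [SymplecticGroup.mem_iff, Matrix.J, Matrix.fromBlocks_transpose, Matrix.fromBlocks_multiply, Matrix.fromBlocks_multiply]
    simp [S, Matrix.transpose_single]
  have hpow : ∀ k : ℕ, (Matrix.fromBlocks 1 S 0 1 : M2d) ^ k = Matrix.fromBlocks 1 ((k : F) • S) 0 1 := fun k => by
    induction k with
    | zero => simp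
    | succ k ih => rw [pow_succ, ih, Matrix.fromBlocks_multiply]; simp [add_smul, add_comm]
  refine spBad_of_odd A hd hθ hspan hp ⟨_, hmem⟩ (z := 1) (g := X - Polynomial.C 1) ?_ ?_
  · show (Matrix.fromBlocks 1 S 0 1) ^ p = _
    rw [hpow, CharP.cast_eq_zero, zero_smul, Matrix.fromBlocks_one, one_smul]
  · rw [map_sub, aeval_X, aeval_C, map_one,
      show (Matrix.fromBlocks 1 S 0 1 : M2d) - 1 = Matrix.single (Sum.inl j0) (Sum.inr j0) 1 by
        ext (i | i) (j | j) <;> simp [S, Matrix.single_apply, Matrix.one_apply],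
      CfsgLib.TensorElusive.rank_single]
    exact odd_one

/-- A hyperbolic line. -/
theorem spBad_split {K : Subalgebra F M2d} {θ : M2d} {c : F} (A : AntiField θ c) (hd : 0 < d) (hθ : θ ∈ K)
    (hspan : ∀ k ∈ K, ∃ α β : F, k = α • 1 + β • θ) (hr : Odd r) (hrq : r ∣ Fintype.card F - 1) : SpBad K r := by
  classical
  let j0 : Fin d := ⟨0, hd⟩
  obtain ⟨ω, hω⟩ : ∃ ω : Fˣ, orderOf ω = r :=
    exists_prime_orderOf_dvd_card' r (by rwa [Nat.card_units, Nat.card_eq_fintype_card])
  have hωr : (ω : F) ^ r = 1 := by rw [← Units.val_pow_eq_pow_val, ← hω, pow_orderOf_eq_one, Units.val_one]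
  have hω1 : (ω : F) ≠ 1 := fun h => by
    rw [Units.val_eq_one] at h
    rw [h, orderOf_one] at hω
    exact (Fact.out : r.Prime).ne_one hω.symm
  have hne : (ω : F)⁻¹ ≠ ω := fun h => by
    have h2 : (ω : F) ^ 2 = 1 := by rw [pow_two]; nth_rw 1 [← h]; exact inv_mul_cancel₀ (Units.ne_zero ω)
    have h3 : ω ^ 2 = 1 := Units.ext (by rw [Units.val_pow_eq_pow_val, h2, Units.val_one])
    have h4 := Nat.le_of_dvd two_pos (hω ▸ orderOf_dvd_of_pow_eq_one h3)
    have h5 := (Fact.out : r.Prime).two_le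
    obtain ⟨k, hk⟩ := hr
    omega
  let v : Fin d → F := fun j => if j = j0 then (ω : F) else 1
  let v' : Fin d → F := fun j => if j = j0 then (ω : F)⁻¹ else 1
  have hvv : ∀ j, v j * v' j = 1 := fun j => by by_cases h : j = j0 <;> simp [v, v', h]
  have hmem : Matrix.diagonal (Sum.elim v v') ∈ Matrix.symplecticGroup (Fin d) F := by
    rw [SymplecticGroup.mem_iff, Matrix.J, ← Matrix.fromBlocks_diagonal, Matrix.fromBlocks_transpose,
      Matrix.fromBlocks_multiply, Matrix.fromBlocks_multiply]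
    simp [Matrix.diagonal_transpose, Matrix.diagonal_mul_diagonal, hvv, mul_comm (v' _) (v _)]
    rw [← Matrix.diagonal_one, Matrix.diagonal_neg]
  refine spBad_of_odd A hd hθ hspan hr ⟨_, hmem⟩ (z := 1) (g := X - Polynomial.C (ω : F)) ?_ ?_
  · show Matrix.diagonal (Sum.elim v v') ^ r = _
    rw [Matrix.diagonal_pow, one_smul, ← Matrix.diagonal_one]
    congr 1
    funext i
    rcases i with i | i <;> by_cases h : i = j0 <;> simp [v, v', h, inv_pow, hωr]
  · rw [map_sub, aeval_X, aeval_C, Algebra.algebraMap_eq_smul_one, CfsgLib.TensorElusive.rank_diag_sub,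
      show (Finset.univ.filter fun i => Sum.elim v v' i ≠ (ω : F)) = Finset.univ.erase (Sum.inl j0) by
        ext (i | i) <;> by_cases h : i = j0 <;> simp [v, v', h, hne, Ne.symm hω1],
      Finset.card_erase_of_mem (Finset.mem_univ _), Finset.card_univ, Fintype.card_sum, Fintype.card_fin]
    exact ⟨d - 1, by omega⟩

theorem rank_add_ker (M : M2d) (g : F[X]) :
    (aeval M g).rank + finrank F (LinearMap.ker (aeval (Matrix.toLin' M) g)) = 2 * d := by
  rw [Matrix.rank, show (aeval M g).mulVecLin = aeval (Matrix.toLin' M) g from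
      (Polynomial.aeval_algHom_apply (Matrix.toLinAlgEquiv' (R := F) (n := Fin d ⊕ Fin d)) _ g).symm,
    LinearMap.finrank_range_add_finrank_ker, Module.finrank_pi, Fintype.card_sum, Fintype.card_fin, two_mul]

/-- A paired block of odd half-dimension. -/
theorem spBad_swap {K : Subalgebra F M2d} {θ : M2d} {c : F} (A : AntiField θ c) (hd : 0 < d) (hθ : θ ∈ K)
    (hspan : ∀ k ∈ K, ∃ α β : F, k = α • 1 + β • θ) (hr : Odd r) (hrp : r ≠ p) {i : ℕ}
    (hi : orderOf (Fintype.card F : ZMod r) = i) (ho : Odd i) (hid : i ≤ d) : SpBad K r := by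
  obtain ⟨B, _, _, _, 𝔅, z, g, hdim, hz2, hz3, -, hg1, hgk⟩ :=
    CfsgLib.TensorElusive.exists_swap_block' (F := F) (p := p) (r := r) (i := i) hrp hi ho
      (fun h => by obtain ⟨k, hk⟩ := hr; omega)
  obtain ⟨x, hx, hker⟩ := CfsgLib.PrimeIso.exists_element 𝔅 (T := 1) (k := d - i) (fun _ => z) (fun _ => hz2)
    (fun _ => hz3) (d := d) (by rw [hdim]; omega)
  have h3 := (hker g).1 hg1
  rw [Fin.sum_univ_one, hgk] at h3
  refine spBad_of_odd A hd hθ hspan hr x (z := 1) (g := g) (by rw [← SubmonoidClass.coe_pow, hx, one_smul]; rfl) ?_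
  have h := rank_add_ker (x : M2d) g
  rw [h3] at h
  obtain ⟨k, hk⟩ := ho
  exact ⟨d - k - 1, by omega⟩

theorem aeval_pow_card {B : Type*} [CommRing B] [Algebra F B] (P : F[X]) (z : B) :
    aeval (z ^ Fintype.card F) P = aeval z P ^ Fintype.card F := by
  rw [← map_pow, ← FiniteField.expand_card, Polynomial.expand_aeval]

/-- A single block on which the field must act by polynomials in the element. -/
theorem spBad_field {K : Subalgebra F M2d} {θ : M2d} {c : F} (A : AntiField θ c) (hd : 0 < d) (hθ : θ ∈ K)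
    (hspan : ∀ k ∈ K, ∃ α β : F, k = α • 1 + β • θ) (hr : Odd r) (hrp : r ≠ p) {h : ℕ}
    (hi : orderOf (Fintype.card F : ZMod r) = 2 * h) (he : Even h) (hh : 0 < h) (hhd : h ≤ d) : SpBad K r := by
  classical
  have hrP : r.Prime := Fact.out
  obtain ⟨B, _, _, _, 𝔅, hdim, hroots⟩ := CfsgLib.PrimeIso.exists_field_block (F := F) (p := p) (r := r) (h := h) hrp hi
  have hdeg : (geom F r).natDegree = r - 1 := CfsgLib.PrimeIso.geom_natDegree (F := F) hrP.pos
  obtain ⟨g₁, hg₁⟩ := Polynomial.exists_irreducible_of_natDegree_pos (f := geom F r) (by have := hrP.two_le; omega)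
  set g := g₁ * Polynomial.C g₁.leadingCoeff⁻¹
  have hgm : g.Monic := monic_mul_leadingCoeff_inv hg₁.1.ne_zero
  have hass : Associated g₁ g := associated_mul_unit_right g₁ _
    (isUnit_C.mpr (isUnit_iff_ne_zero.mpr (inv_ne_zero (leadingCoeff_ne_zero.mpr hg₁.1.ne_zero))))
  have hgi : Irreducible g := hass.irreducible hg₁.1
  have hgd : g ∣ geom F r := hass.dvd_iff_dvd_left.mp hg₁.2
  have hgn : g.natDegree = 2 * h := (geom_degree (p := p) hrP hrp hgi hgm hgd).trans hi
  obtain ⟨z, hz, hz2, hz3, hz4⟩ := hroots g hgi hgm hgd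
  obtain ⟨x, hx, hker⟩ := CfsgLib.PrimeIso.exists_element 𝔅 (T := 1) (k := d - h) (fun _ => z) (fun _ => hz2)
    (fun _ => hz3) (d := d) (by rw [hdim]; omega)
  have hxr : (x : M2d) ^ r = 1 := by rw [← SubmonoidClass.coe_pow, hx]; rfl
  refine spBad_of A hd hθ hspan hr x (z := 1) (by rw [hxr, one_smul]) fun a Aa hxa => ?_
  set T : Module.End F V := Matrix.toLinAlgEquiv' (x : M2d) with hTdef
  have hTl : Matrix.toLin' (x : M2d) = T := rfl
  rw [hTl] at hker
  set W := LinearMap.ker (aeval T g) with hWdef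
  set U := LinearMap.ker (aeval T (X - Polynomial.C (1 : F))) with hUdef
  have hg1 : g.eval 1 ≠ 0 := fun h1 => by
    have h2 : g.natDegree = 1 := natDegree_eq_of_degree_eq_some (degree_eq_one_of_irreducible_of_root hgi h1)
    omega
  have hWdim : finrank F W = 2 * h := by
    rw [hWdef, (hker g).1 hg1, Fin.sum_univ_one, hz, LinearMap.mulLeft_zero_eq_zero, LinearMap.ker_zero, finrank_top,
      hdim]
  have hUdim : 2 * (d - h) ≤ finrank F U := by
    rw [hUdef, (hker (X - Polynomial.C 1)).2 (by simp)]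
    exact Nat.le_add_left _ _
  have hcop : IsCoprime g (X - Polynomial.C (1 : F)) :=
    (Irreducible.coprime_iff_not_dvd (irreducible_X_sub_C 1)).mpr (fun hdv => hg1 (dvd_iff_isRoot.mp hdv)) |>.symm
  have hdisj : Disjoint W U := Polynomial.disjoint_ker_aeval_of_isCoprime T hcop
  have hWU : W ⊔ U = ⊤ := Submodule.eq_top_of_finrank_eq (le_antisymm (Submodule.finrank_le _) (by
    have h1 := Submodule.finrank_sup_add_finrank_inf_eq W U
    rw [hdisj.eq_bot, finrank_bot, add_zero] at h1
    rw [h1, Module.finrank_pi, Fintype.card_sum, Fintype.card_fin, hWdim]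
    omega))
  have hTW : ∀ w ∈ W, ∀ Q : F[X], aeval T Q w ∈ W := fun w hw Q => by
    rw [hWdef, LinearMap.mem_ker, ← Module.End.mul_apply, ← map_mul, mul_comm, map_mul, Module.End.mul_apply,
      LinearMap.mem_ker.mp hw, map_zero]
  have hTB : ∀ u v, sympB d F (T u) (T v) = sympB d F u v := fun u v => by
    rw [sympB_apply, sympB_apply]
    exact symp_preserves x u v
  have hTr : T ^ r = 1 := by rw [hTdef, ← map_pow, hxr, map_one]
  obtain ⟨r', hr'⟩ : ∃ r', r = r' + 1 := ⟨r - 1, by have := hrP.pos; omega⟩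
  -- the two parts are orthogonal
  have horth : ∀ w ∈ W, ∀ v ∈ U, sympB d F w v = 0 := fun w hw v hv => by
    have hv' : T v = v := by
      have h1 : aeval T (X - Polynomial.C (1 : F)) v = 0 := hv
      simpa [sub_eq_zero] using h1
    let S : W →ₗ[F] W := (aeval T (X - Polynomial.C (1 : F))).restrict fun w hw => hTW w hw _
    have hS : Function.Surjective S := LinearMap.surjective_of_injective ((injective_iff_map_eq_zero S).mpr fun y hy =>
      Subtype.ext (Submodule.disjoint_def.mp hdisj y.1 y.2 (congrArg Subtype.val hy)))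
    obtain ⟨y, hy⟩ := hS ⟨w, hw⟩
    have h2 : aeval T (X - Polynomial.C (1 : F)) y.1 = w := congrArg Subtype.val hy
    rw [← h2, map_sub, aeval_X, aeval_C, map_one, LinearMap.sub_apply, Module.End.one_apply, map_sub,
      LinearMap.sub_apply, sub_eq_zero]
    conv_rhs => rw [← hTB, hv']
  -- adjoints of polynomials
  have hadjP : ∀ (Q : F[X]) u v, sympB d F (aeval T Q u) v = sympB d F u (aeval (T ^ r') Q v) := fun Q u v => by
    have h1 : ∀ u v, sympB d F (T u) v = sympB d F u ((T ^ r') v) := fun u v => by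
      rw [← hTB u ((T ^ r') v), ← Module.End.mul_apply T (T ^ r') v, ← pow_succ', ← hr', hTr, Module.End.one_apply]
    induction Q using Polynomial.induction_on' with
    | add P Q hP hQ => simp [hP, hQ]
    | monomial n b =>
      rw [aeval_monomial, aeval_monomial]
      simp only [Module.End.mul_apply, Module.algebraMap_end_apply, map_smul, LinearMap.smul_apply]
      congr 1
      induction n generalizing u with
      | zero => simp
      | succ n ih => rw [pow_succ, pow_succ', Module.End.mul_apply, Module.End.mul_apply, ih, h1]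
  -- the field acts on the block through a polynomial
  have haT : ∀ (Q : F[X]) v, a *ᵥ aeval T Q v = aeval T Q (a *ᵥ v) := fun Q v => by
    have h1 : Commute (Matrix.toLinAlgEquiv' a) (aeval T Q) := by
      rw [hTdef, Polynomial.aeval_algHom_apply]
      exact (Algebra.commute_of_mem_adjoin_singleton_of_commute (Polynomial.aeval_mem_adjoin_singleton F (x : M2d))
        (show Commute a (x : M2d) from hxa.symm)).map _
    have h2 := LinearMap.congr_fun h1.eq v
    simpa [Matrix.toLin'_apply] using h2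
  have haW : ∀ w ∈ W, a *ᵥ w ∈ W := fun w hw => by
    rw [hWdef, LinearMap.mem_ker, ← haT, LinearMap.mem_ker.mp hw, Matrix.mulVec_zero]
  obtain ⟨w, hw, hw0⟩ := Submodule.exists_mem_ne_zero_of_ne_bot (p := W) (fun h1 => by
    rw [h1, finrank_bot] at hWdim; omega)
  have hann : ∀ Q : F[X], aeval T Q w = 0 → g ∣ Q := fun Q hQ => by
    by_contra hdv
    exact hw0 (Submodule.disjoint_def.mp (Polynomial.disjoint_ker_aeval_of_isCoprime T
      (hgi.coprime_iff_not_dvd.mpr hdv)) w hw hQ)
  obtain ⟨P, hP⟩ : ∃ P : F[X], ∀ v ∈ W, a *ᵥ v = aeval T P v := by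
    let φ : Polynomial.degreeLT F (2 * h) →ₗ[F] W :=
      LinearMap.codRestrict W ((LinearMap.applyₗ w).comp ((aeval T).toLinearMap.comp (Submodule.subtype _)))
        fun Q => hTW w hw _
    have hφ : Function.Surjective φ := by
      rw [← LinearMap.injective_iff_surjective_of_finrank_eq_finrank
        (by rw [hWdim, (Polynomial.degreeLTEquiv F (2 * h)).finrank_eq, Module.finrank_fin_fun])]
      refine (injective_iff_map_eq_zero φ).mpr fun Q hQ => Subtype.ext ?_
      by_contra h0
      have h1 := Polynomial.natDegree_le_of_dvd (hann Q.1 (congrArg Subtype.val hQ)) h0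
      have h2 := (natDegree_lt_iff_degree_lt h0).mpr (Polynomial.mem_degreeLT.mp Q.2)
      omega
    obtain ⟨P, hP⟩ := hφ ⟨_, haW w hw⟩
    refine ⟨P.1, fun v hv => ?_⟩
    obtain ⟨Q, hQ⟩ := hφ ⟨v, hv⟩
    have hP' : aeval T P.1 w = a *ᵥ w := congrArg Subtype.val hP
    have hQ' : aeval T Q.1 w = v := congrArg Subtype.val hQ
    rw [← hQ', haT, ← hP', ← Module.End.mul_apply, ← Module.End.mul_apply, ← map_mul, ← map_mul, mul_comm]
  have hmin : g = minpoly F z := minpoly.eq_of_irreducible_of_monic hgi hz hgm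
  set y := aeval z P
  have hy2 : y * y = algebraMap F B c := by
    obtain ⟨Q, hQ⟩ := hann (P * P - Polynomial.C c) (by
      rw [map_sub, map_mul, LinearMap.sub_apply, Module.End.mul_apply, ← hP w hw, ← hP _ (haW w hw), Aa.sq_mulVec,
        aeval_C, Module.algebraMap_end_apply, sub_self])
    have h1 := congrArg (aeval z) hQ
    rw [map_sub, map_mul, map_mul, hz, zero_mul, aeval_C, sub_eq_zero] at h1
    exact h1
  have hyq : y ^ Fintype.card F = -y := by
    obtain ⟨n, hn⟩ : ∃ n, Fintype.card F = 2 * n + 1 := by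
      have h2 : ringChar F ≠ 2 := fun hc => Aa.two (by
        have := ringChar.of_eq hc
        exact CharP.ofNat_eq_zero F 2)
      obtain ⟨n, hn⟩ := Nat.odd_iff.mpr (FiniteField.odd_card_of_char_ne_two h2)
      exact ⟨n, hn⟩
    have hcn : c ^ n = -1 := by
      have h2 : ringChar F ≠ 2 := fun hc => Aa.two (by
        have := ringChar.of_eq hc
        exact CharP.ofNat_eq_zero F 2)
      rcases FiniteField.pow_dichotomy h2 Aa.ne_zero with h1 | h1
      · exact absurd ((FiniteField.isSquare_iff h2 Aa.ne_zero).mpr h1) Aa.nsq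
      · rwa [hn, show (2 * n + 1) / 2 = n by omega] at h1
    rw [hn, pow_succ, pow_mul, pow_two, hy2, ← map_pow, hcn, map_neg, map_one, neg_one_mul]
  have hyk : ∀ k : ℕ, aeval (z ^ Fintype.card F ^ k) P = (-1) ^ k * y := fun k => by
    induction k with
    | zero => simp [y]
    | succ k ih =>
      have hodd : Odd (Fintype.card F) := by
        have h2 : ringChar F ≠ 2 := fun hc => Aa.two (by
          have := ringChar.of_eq hc
          exact CharP.ofNat_eq_zero F 2)
        exact Nat.odd_iff.mpr (FiniteField.odd_card_of_char_ne_two h2)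
      rw [pow_succ, pow_mul, aeval_pow_card, ih, mul_pow, hyq, ← pow_mul, mul_comm k, pow_mul, hodd.neg_one_pow,
        pow_succ, mul_neg, mul_neg_one, neg_mul]
  have hzh : z ^ Fintype.card F ^ h = z ^ r' := by
    obtain ⟨m, hm⟩ := CfsgLib.PrimeIso.half_pow (F := F) (p := p) (r := r) hrp hi
    have hz0 : z ≠ 0 := fun h0 => by rw [h0, zero_pow hrP.ne_zero] at hz3; exact zero_ne_one hz3
    refine mul_right_cancel₀ hz0 ?_
    rw [← pow_succ, ← pow_succ, hm, ← hr', pow_mul, hz3, one_pow]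
  have hsym : g ∣ P.comp (X ^ r') - P := by
    rw [hmin]
    refine minpoly.dvd F z ?_
    rw [map_sub, aeval_comp, map_pow, aeval_X, ← hzh, hyk, he.neg_one_pow, one_mul, sub_self]
  have hiso : ∀ u ∈ W, ∀ v ∈ W, sympB d F u v = 0 := by
    have h1 : ∀ v ∈ W, aeval (T ^ r') P v = aeval T P v := fun v hv => by
      obtain ⟨Q, hQ⟩ := hsym
      have h2 := congrArg (fun S => aeval T S v) hQ
      simp only [map_sub, aeval_comp, map_pow, aeval_X, LinearMap.sub_apply] at h2
      rw [mul_comm g, map_mul, Module.End.mul_apply, LinearMap.mem_ker.mp hv, map_zero, sub_eq_zero] at h2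
      exact h2
    have h3 : ∀ u ∈ W, ∀ v ∈ W, sympB d F u (a *ᵥ v) = 0 := fun u hu v hv => by
      have h4 := Aa.adj u v
      rw [hP u hu, hadjP, h1 v hv, ← hP v hv] at h4
      exact (mul_eq_zero.mp (show (2 : F) * sympB d F u (a *ᵥ v) = 0 by linear_combination h4)).resolve_left Aa.two
    intro u hu v hv
    have h5 := h3 u hu _ (haW v hv)
    rw [Aa.sq_mulVec, map_smul, smul_eq_mul] at h5
    exact (mul_eq_zero.mp h5).resolve_left Aa.ne_zero
  refine hw0 (sympB_nondeg.1 w fun v => ?_)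
  obtain ⟨v₁, hv₁, v₂, hv₂, rfl⟩ := Submodule.mem_sup.mp (hWU ▸ Submodule.mem_top : v ∈ W ⊔ U)
  rw [map_add, hiso w hw v₁ hv₁, horth w hw v₂ hv₂, add_zero]

end CfsgLib.FieldSpElusive
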