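/-
Symplectic elements of period two modulo scalars inside the normaliser of the quadratic field.
-/
import Cfsg.Agent.Lib.FieldSpElusive.Standard
import Cfsg.Agent.Lib.TensorElusive.SympPos
import Cfsg.Agent.Lib.FiniteForms.Quad

set_option autoImplicit false
set_option linter.unusedSectionVars false

namespace CfsgLib.FieldSpElusive

open Polynomial Module Matrix CfsgLib.IsotropicCount
open scoped Kronecker

universe u

variable {F : Type u} [Field F] [Fintype F] {p d : ℕ} [Fact p.Prime] [CharP F p]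

local notation "M2d" => Matrix (Fin d ⊕ Fin d) (Fin d ⊕ Fin d) F

/-- The two halves as a product. -/
def halves (d : ℕ) : (Fin d ⊕ Fin d) ≃ Fin 2 × Fin d where
  toFun := Sum.elim (fun j => (0, j)) (fun j => (1, j))
  invFun x := if x.1 = 0 then Sum.inl x.2 else Sum.inr x.2
  left_inv x := by cases x <;> simp
  right_inv x := by obtain ⟨a, j⟩ := x; fin_cases a <;> simp

theorem charpoly_kronecker_one (A : Matrix (Fin 2) (Fin 2) F) :
    (A ⊗ₖ (1 : Matrix (Fin d) (Fin d) F)).charpoly = A.charpoly ^ d := by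
  classical
  rw [Matrix.charpoly, show Matrix.charmatrix (A ⊗ₖ (1 : Matrix (Fin d) (Fin d) F)) =
      Matrix.blockDiagonal (fun _ : Fin d => Matrix.charmatrix A) by
    ext ⟨i, k⟩ ⟨j, l⟩
    by_cases hkl : k = l
    · subst hkl
      simp [Matrix.charmatrix_apply, Matrix.blockDiagonal_apply, Matrix.diagonal_apply]
    · simp [Matrix.charmatrix_apply, Matrix.blockDiagonal_apply, Matrix.diagonal_apply, hkl],
    Matrix.det_blockDiagonal, Finset.prod_const, Finset.card_univ, Fintype.card_fin]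
  rfl

/-- The characteristic polynomial of a symplectic element squaring to minus one. -/
theorem charpoly_neg (h20 : (2 : F) ≠ 0) (hd : 0 < d) (x : Matrix.symplecticGroup (Fin d) F)
    (hx : (x : M2d) ^ 2 = (-1 : F) • 1) : (x : M2d).charpoly = (X ^ 2 + 1) ^ d := by
  classical
  obtain ⟨C, A, hA, hC⟩ := CfsgLib.TensorElusive.exists_basis_neg h20 x hx
  have hA2 : A * A = -1 := by
    have h1 : LinearMap.toMatrix C C (Matrix.toLin' (x : M2d) * Matrix.toLin' (x : M2d)) =
        (A * A) ⊗ₖ (1 : Matrix (Fin d) (Fin d) F) := by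
      rw [LinearMap.toMatrix_mul, hC, ← Matrix.mul_kronecker_mul, one_mul]
    rw [Module.End.mul_eq_comp, ← Matrix.toLin'_mul, ← pow_two, hx, map_smul, Matrix.toLin'_one, map_smul,
      LinearMap.toMatrix_id] at h1
    refine Matrix.ext fun i j => ?_
    have h2 := congrFun (congrFun h1 (i, ⟨0, hd⟩)) (j, ⟨0, hd⟩)
    simp only [Matrix.smul_apply, Matrix.one_apply, Matrix.kroneckerMap_apply, Prod.mk.injEq, and_true, if_true,
      mul_one] at h2
    rw [← h2, Matrix.neg_apply, Matrix.one_apply]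
    by_cases hij : i = j <;> simp [hij]
  have htr : A.trace = 0 := by
    have e00 := congrFun (congrFun hA2 0) 0
    have e01 := congrFun (congrFun hA2 0) 1
    have e10 := congrFun (congrFun hA2 1) 0
    have e11 := congrFun (congrFun hA2 1) 1
    simp [Matrix.mul_apply, Fin.sum_univ_two] at e00 e01 e10 e11
    rw [Matrix.det_fin_two] at hA
    rw [Matrix.trace_fin_two]
    have h1 : A 0 0 * (A 0 0 + A 1 1) = 0 := by linear_combination e00 + hA
    have h2 : A 1 1 * (A 0 0 + A 1 1) = 0 := by linear_combination e11 + hA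
    have h3 : (A 0 0 + A 1 1) * (A 0 0 + A 1 1) = 0 := by linear_combination h1 + h2
    exact mul_self_eq_zero.mp h3
  obtain ⟨g, hg⟩ := CfsgLib.TensorElusive.isConj_of_basis (halves d) _ C _ hC
  have hx' : (x : M2d) = ((g⁻¹ : (M2d)ˣ) : M2d) *
      Matrix.reindex (halves d).symm (halves d).symm (A ⊗ₖ (1 : Matrix (Fin d) (Fin d) F)) * (g : M2d) := by
    rw [mul_assoc, ← hg.eq, ← mul_assoc, Units.inv_mul, one_mul]
  rw [hx', Matrix.charpoly_mul_comm, ← mul_assoc, Units.mul_inv, one_mul, Matrix.charpoly_reindex, charpoly_kronecker_one, Matrix.charpoly_fin_two, htr, hA]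
  simp

/-- Every element of period two modulo scalars has a symplectic conjugate in the normaliser. -/
theorem symp_two {K : Subalgebra F M2d} {θ : M2d} {c : F} (A : AntiField θ c) (hd : 0 < d) (hθ : θ ∈ K)
    (hspan : ∀ k ∈ K, ∃ α β : F, k = α • 1 + β • θ) (hp2 : p ≠ 2) (x : GL (Fin d ⊕ Fin d) F) (hx : x ∈ Cfsg.spGL d F)
    {z : F} (hz : ((x ^ 2 : GL (Fin d ⊕ Fin d) F) : M2d) = z • 1) :
    ∃ g ∈ Cfsg.spGL d F, g⁻¹ * x * g ∈ Cfsg.Geo.subalgebraNormalizer K := by
  classical
  obtain ⟨x₀, rfl⟩ := CfsgLib.TensorElusive.exists_glS hx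
  obtain ⟨P, hP⟩ := exists_standard A
  have hx2 : (x₀ : M2d) ^ 2 = z • 1 := hz
  have hz2 : z * z = 1 := CfsgLib.PrimeIso.symp_scalar_sq hd (x₀ ^ 2) (by rw [SubmonoidClass.coe_pow]; exact hx2)
  have hord : ∀ y : Matrix.symplecticGroup (Fin d) F, (y : M2d) ^ 2 = z • 1 → (orderOf y).Coprime p := fun y hy => by
    have h4 : y ^ 4 = 1 := Subtype.ext (by
      rw [SubmonoidClass.coe_pow, show (4 : ℕ) = 2 * 2 from rfl, pow_mul, hy, _root_.smul_pow, one_pow, pow_two, hz2,
        one_smul]
      rfl)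
    refine Nat.Coprime.coprime_dvd_left (orderOf_dvd_of_pow_eq_one h4) ?_
    rw [show (4 : ℕ) = 2 ^ 2 from rfl]
    exact Nat.Coprime.pow_left _ ((Nat.coprime_primes Nat.prime_two Fact.out).mpr hp2.symm)
  suffices ∃ (y : Matrix.symplecticGroup (Fin d) F) (s : F), s * s = 1 ∧
      (y : M2d) * stdRoot d c = s • (stdRoot d c * (y : M2d)) ∧ IsConj x₀ y by
    obtain ⟨y, s, hs, hy, hxy⟩ := this
    obtain ⟨v, hv⟩ := isConj_iff.mp (hxy.trans (isConj_iff.mpr ⟨P, rfl⟩))
    refine ⟨CfsgLib.TensorElusive.glS v⁻¹, CfsgLib.TensorElusive.glS_mem _, ?_⟩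
    rw [← map_inv, inv_inv, ← map_mul, ← map_mul, hv]
    refine mem_normalizer hθ hspan hs ?_
    show ((P * y * P⁻¹ : Matrix.symplecticGroup (Fin d) F) : M2d) * θ =
      s • (θ * ((P * y * P⁻¹ : Matrix.symplecticGroup (Fin d) F) : M2d))
    rw [Submonoid.coe_mul, Submonoid.coe_mul]
    have h1 : (P : M2d) * ((P⁻¹ : Matrix.symplecticGroup (Fin d) F) : M2d) = 1 := by
      rw [← Submonoid.coe_mul, mul_inv_cancel]; rfl
    have h2 : ((P⁻¹ : Matrix.symplecticGroup (Fin d) F) : M2d) * (P : M2d) = 1 := by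
      rw [← Submonoid.coe_mul, inv_mul_cancel]; rfl
    set Pi := ((P⁻¹ : Matrix.symplecticGroup (Fin d) F) : M2d)
    have hθP : θ = (P : M2d) * stdRoot d c * Pi := by rw [← hP, mul_assoc, h1, mul_one]
    rw [hθP, show (P : M2d) * (y : M2d) * Pi * ((P : M2d) * stdRoot d c * Pi) =
        (P : M2d) * ((y : M2d) * (Pi * (P : M2d)) * stdRoot d c) * Pi by simp only [mul_assoc],
      show (P : M2d) * stdRoot d c * Pi * ((P : M2d) * (y : M2d) * Pi) =
        (P : M2d) * (stdRoot d c * (Pi * (P : M2d)) * (y : M2d)) * Pi by simp only [mul_assoc],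
      h2, mul_one, mul_one, hy, Matrix.mul_smul, Matrix.smul_mul]
  rcases mul_self_eq_one_iff.mp hz2 with rfl | rfl
  · rw [one_smul] at hx2
    obtain ⟨C, sg, hsg, hC⟩ := CfsgLib.TensorElusive.exists_basis_invol A.two x₀ hx2
    have hmem : Matrix.diagonal (Sum.elim sg sg) ∈ Matrix.symplecticGroup (Fin d) F := by
      rw [SymplecticGroup.mem_iff, Matrix.J, ← Matrix.fromBlocks_diagonal, Matrix.fromBlocks_transpose,
        Matrix.fromBlocks_multiply, Matrix.fromBlocks_multiply]
      simp [Matrix.diagonal_transpose, Matrix.diagonal_mul_diagonal, hsg]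
      rw [← Matrix.diagonal_one, Matrix.diagonal_neg]
    refine ⟨⟨_, hmem⟩, 1, one_mul 1, ?_, CfsgLib.SemisimpleIso.symp_isConj (hord x₀ (by rw [hx2, one_smul]))
      ((CfsgLib.TensorElusive.isConj_of_basis (halves d) _ C _ hC).trans ?_)⟩
    · show Matrix.diagonal (Sum.elim sg sg) * stdRoot d c =
        (1 : F) • (stdRoot d c * Matrix.diagonal (Sum.elim sg sg))
      rw [one_smul, stdRoot, ← Matrix.fromBlocks_diagonal, Matrix.fromBlocks_multiply, Matrix.fromBlocks_multiply]
      simp
    · rw [show Matrix.reindex (halves d).symm (halves d).symm ((1 : Matrix (Fin 2) (Fin 2) F) ⊗ₖ Matrix.diagonal sg) =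
          Matrix.diagonal (Sum.elim sg sg) by
        rw [← Matrix.diagonal_one, Matrix.diagonal_kronecker_diagonal, Matrix.reindex_apply,
          Matrix.submatrix_diagonal_equiv]
        congr 1
        funext k
        rcases k with k | k <;> simp [halves]]
  · obtain ⟨y, s, hs, hy, hy2⟩ : ∃ (y : Matrix.symplecticGroup (Fin d) F) (s : F), s * s = 1 ∧
        (y : M2d) * stdRoot d c = s • (stdRoot d c * (y : M2d)) ∧ (y : M2d) ^ 2 = (-1 : F) • 1 := by
      by_cases hsq : IsSquare (-1 : F)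
      · obtain ⟨t, ht⟩ := hsq
        refine ⟨⟨Matrix.fromBlocks (t • 1) 0 0 (-t • 1), ?_⟩, -1, by ring, ?_, ?_⟩
        · rw [SymplecticGroup.mem_iff, Matrix.J, Matrix.fromBlocks_transpose, Matrix.fromBlocks_multiply,
            Matrix.fromBlocks_multiply]
          simp [smul_smul, ← ht]
        · show Matrix.fromBlocks _ _ _ _ * stdRoot d c = _
          rw [stdRoot, Matrix.fromBlocks_multiply, Matrix.fromBlocks_multiply, Matrix.fromBlocks_smul]
          simp [smul_smul, mul_comm]
        · show Matrix.fromBlocks _ _ _ _ ^ 2 = _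
          rw [pow_two, Matrix.fromBlocks_multiply, ← Matrix.fromBlocks_one, Matrix.fromBlocks_smul]
          simp [smul_smul, ← ht]
      · obtain ⟨t, ht⟩ := (CfsgLib.FiniteForms.isSquare_mul_iff (neg_ne_zero.mpr one_ne_zero) (inv_ne_zero A.ne_zero)).mpr
          (iff_of_false hsq (by rw [isSquare_inv]; exact A.nsq))
        have htc : t * t * c = -1 := by rw [← ht, mul_assoc, inv_mul_cancel₀ A.ne_zero, mul_one]
        refine ⟨⟨t • stdRoot d c, ?_⟩, 1, one_mul 1, ?_, ?_⟩
        · rw [SymplecticGroup.mem_iff, Matrix.J, stdRoot, Matrix.fromBlocks_smul, Matrix.fromBlocks_transpose,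
            Matrix.fromBlocks_multiply, Matrix.fromBlocks_multiply]
          simp [smul_smul, show t * (t * c) = -1 by rw [← mul_assoc, htc], show t * c * t = -1 by linear_combination htc]
        · show t • stdRoot d c * stdRoot d c = _
          rw [one_smul, Matrix.smul_mul, Matrix.mul_smul]
        · show (t • stdRoot d c) ^ 2 = _
          rw [pow_two, stdRoot, Matrix.fromBlocks_smul, Matrix.fromBlocks_multiply, ← Matrix.fromBlocks_one,
            Matrix.fromBlocks_smul]
          simp [smul_smul, show t * (t * c) = -1 by rw [← mul_assoc, htc], show t * c * t = -1 by linear_combination htc]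
    exact ⟨y, s, hs, hy, CfsgLib.SemisimpleIso.symp_isConj_of_charpoly (hord x₀ hx2) (hord y hy2)
      ((charpoly_neg A.two hd x₀ hx2).trans (charpoly_neg A.two hd y hy2).symm)⟩

end CfsgLib.FieldSpElusive
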