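/-
The unitary group inside the normaliser of the quadratic field, and the index.
-/
import Cfsg.Agent.Lib.FieldSpElusive.Standard
import Cfsg.Agent.Lib.FiniteForms.UnitaryEmbed
import Cfsg.Agent.Lib.UnitaryOrder
import Cfsg.Agent.Lib.PrimeIso.Rev
import Cfsg.Agent.Lib.MaxSub.ElusiveGL

set_option autoImplicit false
set_option linter.unusedSectionVars false

namespace CfsgLib.FieldSpElusive

open Module Matrix CfsgLib.IsotropicCount CfsgLib.FiniteForms

universe u

variable {F : Type u} [Field F] [Fintype F] {p : ℕ} [Fact p.Prime] [CharP F p] {d : ℕ}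

local notation "V" => (Fin d ⊕ Fin d → F)
local notation "M2d" => Matrix (Fin d ⊕ Fin d) (Fin d ⊕ Fin d) F

theorem restrictMat_smul {F' K' ι κ : Type*} [Field F'] [Field K'] [Algebra F' K'] [Fintype ι] [DecidableEq ι] [Fintype κ]
    [DecidableEq κ] (T : (ι → K') ≃ₗ[F'] (κ → F')) (a : F') :
    restrictMat T (algebraMap F' K' a • 1) = a • 1 := by
  refine Matrix.ext_of_mulVec_single fun i => ?_
  obtain ⟨v, hv⟩ := T.surjective (Pi.single i 1)
  rw [← hv, restrictMat_mulVec, Matrix.smul_mulVec, Matrix.one_mulVec, Matrix.smul_mulVec, Matrix.one_mulVec, ← map_smul,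
    IsScalarTower.algebraMap_smul]

include p in
/-- The centraliser of the square root contains a unitary group. -/
theorem card_GU_dvd {K : Subalgebra F M2d} {θ : M2d} {c : F} (A : AntiField θ c) (hθ : θ ∈ K)
    (hspan : ∀ k ∈ K, ∃ α β : F, k = α • 1 + β • θ) :
    Fintype.card F ^ (d * (d - 1) / 2) *
      ∏ i ∈ Finset.range d, (if Even i then Fintype.card F ^ (i + 1) + 1 else Fintype.card F ^ (i + 1) - 1) ∣
      Nat.card ↥(Cfsg.Geo.subalgebraNormalizer K ⊓ Cfsg.spGL d F) := by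
  classical
  let E := FiniteField.Extension F p 2
  have : Fintype E := Fintype.ofFinite E
  have hE : Fintype.card E = Fintype.card F ^ 2 := by
    rw [← Nat.card_eq_fintype_card, FiniteField.natCard_extension, Nat.card_eq_fintype_card]
  obtain ⟨ι, T, hT⟩ := exists_symp_coords (K := E) hE rfl d
  letI : Algebra F E := ι.toAlgebra
  obtain ⟨σ, -, hσ, hfix⟩ := quadratic_data hE rfl ι
  have hodd : Odd (Fintype.card F) := Nat.odd_iff.mpr (FiniteField.odd_card_of_char_ne_two fun hc => A.two (by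
    have := ringChar.of_eq hc
    exact CharP.ofNat_eq_zero F 2))
  have h2E : ringChar E ≠ 2 := fun hc => by
    have := ringChar.of_eq hc
    have h2 : ι (2 : F) = 0 := by rw [map_ofNat]; exact CharP.ofNat_eq_zero E 2
    exact A.two (ι.injective (h2.trans (map_zero ι).symm))
  obtain ⟨w, hw⟩ : ∃ w : E, ι c = w * w := by
    have hc0 : ι c ≠ 0 := fun h => A.ne_zero (ι.injective (h.trans (map_zero ι).symm))
    refine (FiniteField.isSquare_iff h2E hc0).mpr ?_
    obtain ⟨n, hn⟩ := hodd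
    rw [hE, hn, show (2 * n + 1) ^ 2 / 2 = 2 * n * (n + 1) by
      rw [show (2 * n + 1) ^ 2 = 2 * (2 * n * (n + 1)) + 1 by ring]; omega, pow_mul, ← map_pow,
      show 2 * n = Fintype.card F - 1 by omega, FiniteField.pow_card_sub_one_eq_one c A.ne_zero, map_one, one_pow]
  have hwq : w ^ Fintype.card F = -w := by
    have h1 : w ^ Fintype.card F * w ^ Fintype.card F = w * w := by
      rw [← mul_pow, ← hw, ← map_pow, FiniteField.pow_card]
    rcases mul_self_eq_mul_self_iff.mp h1 with h | h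
    · obtain ⟨s, hs⟩ := (hfix w).mp (by rw [hσ, h])
      exact absurd ⟨s, ι.injective (by rw [map_mul, hs, hw])⟩ A.nsq
    · exact h
  set θ' : M2d := restrictMat T (w • 1) with hθ'def
  have hθT : ∀ v, θ' *ᵥ T v = T (w • v) := fun v => by
    rw [hθ'def, restrictMat_mulVec, Matrix.smul_mulVec, Matrix.one_mulVec]
  have hA' : AntiField θ' c := by
    refine ⟨A.two, fun u v => ?_, ?_, A.nsq⟩
    · obtain ⟨u₀, rfl⟩ := T.surjective u
      obtain ⟨v₀, rfl⟩ := T.surjective v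
      rw [hθT, hθT, ← map_neg, ← map_neg T, sympB_apply, sympB_apply, Cfsg.sympForm, Cfsg.sympForm]
      refine hT _ _ _ _ ?_
      rw [Cfsg.hermForm, Cfsg.hermForm]
      refine Finset.sum_congr rfl fun i _ => ?_
      simp only [Pi.smul_apply, Pi.neg_apply, smul_eq_mul]
      rw [hodd.neg_pow, mul_pow, hwq]
      ring
    · rw [hθ'def, ← map_mul, Matrix.smul_mul, Matrix.one_mul, smul_smul, ← hw]
      exact restrictMat_smul T c
  obtain ⟨P', hP'⟩ := exists_standard hA'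
  obtain ⟨P, hP⟩ := exists_standard A
  set R : GL (Fin d ⊕ Fin d) F := CfsgLib.TensorElusive.glS (P * P'⁻¹)
  have hRθ : (R : M2d) * θ' = θ * (R : M2d) := by
    show ((P * P'⁻¹ : Matrix.symplecticGroup (Fin d) F) : M2d) * θ' = θ * ((P * P'⁻¹ : Matrix.symplecticGroup (Fin d) F) : M2d)
    rw [Submonoid.coe_mul]
    have h1 : (P' : M2d) * ((P'⁻¹ : Matrix.symplecticGroup (Fin d) F) : M2d) = 1 := by
      rw [← Submonoid.coe_mul, mul_inv_cancel]; rfl
    have h2 : ((P'⁻¹ : Matrix.symplecticGroup (Fin d) F) : M2d) * (P' : M2d) = 1 := by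
      rw [← Submonoid.coe_mul, inv_mul_cancel]; rfl
    set Pi := ((P'⁻¹ : Matrix.symplecticGroup (Fin d) F) : M2d)
    calc (P : M2d) * Pi * θ' = (P : M2d) * (Pi * (θ' * (P' : M2d))) * Pi := by
          simp only [mul_assoc, h1, mul_one]
      _ = (P : M2d) * stdRoot d c * Pi := by rw [hP', ← mul_assoc Pi, h2, one_mul]
      _ = θ * ((P : M2d) * Pi) := by rw [← hP, mul_assoc]
  let φ : Cfsg.GU d E (Fintype.card F) →* GL (Fin d ⊕ Fin d) F :=
    (MulAut.conj R).toMonoidHom.comp ((restrictMat T).comp ((Units.coeHom (Matrix (Fin d) (Fin d) E)).comp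
      (Cfsg.GU d E (Fintype.card F)).subtype)).toHomUnits
  have hφinj : Function.Injective φ := fun g₁ g₂ h =>
    Subtype.ext (Units.ext (restrictMat_injective T (congrArg Units.val ((MulAut.conj R).injective h))))
  have hle : φ.range ≤ Cfsg.Geo.subalgebraNormalizer K ⊓ Cfsg.spGL d F := by
    rintro _ ⟨g, rfl⟩
    set y := ((restrictMat T).comp ((Units.coeHom (Matrix (Fin d) (Fin d) E)).comp
      (Cfsg.GU d E (Fintype.card F)).subtype)).toHomUnits g
    have hy : (y : M2d) = restrictMat T (g.1 : Matrix (Fin d) (Fin d) E) := rfl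
    have hysp : y ∈ Cfsg.spGL d F := fun u v => by
      obtain ⟨u₀, rfl⟩ := T.surjective u
      obtain ⟨v₀, rfl⟩ := T.surjective v
      show Cfsg.sympForm d F ((y : M2d) *ᵥ T u₀) ((y : M2d) *ᵥ T v₀) = _
      rw [hy, restrictMat_mulVec, restrictMat_mulVec, Cfsg.sympForm, Cfsg.sympForm]
      exact hT _ _ _ _ (g.2 u₀ v₀)
    have hyθ : (y : M2d) * θ' = θ' * (y : M2d) := by
      rw [hy, hθ'def, ← map_mul, ← map_mul, Matrix.mul_smul, Matrix.mul_one, Matrix.smul_mul, Matrix.one_mul]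
    refine ⟨mem_normalizer hθ hspan (s := 1) (one_mul 1) ?_,
      mul_mem (mul_mem (CfsgLib.TensorElusive.glS_mem _) hysp) ((Cfsg.spGL d F).inv_mem (CfsgLib.TensorElusive.glS_mem _))⟩
    rw [one_smul]
    show ((R * y * R⁻¹ : GL (Fin d ⊕ Fin d) F) : M2d) * θ = θ * ((R * y * R⁻¹ : GL (Fin d ⊕ Fin d) F) : M2d)
    rw [Units.val_mul, Units.val_mul]
    have hRi : ((R⁻¹ : GL (Fin d ⊕ Fin d) F) : M2d) * θ = θ' * ((R⁻¹ : GL (Fin d ⊕ Fin d) F) : M2d) := by
      calc ((R⁻¹ : GL (Fin d ⊕ Fin d) F) : M2d) * θ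
          = ((R⁻¹ : GL (Fin d ⊕ Fin d) F) : M2d) * (θ * (R : M2d)) * ((R⁻¹ : GL (Fin d ⊕ Fin d) F) : M2d) := by
            simp only [mul_assoc, Units.mul_inv, mul_one]
        _ = θ' * ((R⁻¹ : GL (Fin d ⊕ Fin d) F) : M2d) := by rw [← hRθ, Units.inv_mul_cancel_left]
    rw [mul_assoc _ _ θ, hRi, ← mul_assoc, mul_assoc _ _ θ', hyθ, ← mul_assoc, hRθ, mul_assoc θ, mul_assoc θ]
  have h := Subgroup.card_dvd_of_le hle
  rwa [← Nat.card_congr (MonoidHom.ofInjective hφinj).toEquiv, CfsgLib.UnitaryOrder.card_GU hE] at h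

/-- The primes for which the index statement is needed do not divide the index. -/
theorem index_not_dvd {K : Subalgebra F M2d} {θ : M2d} {c : F} (A : AntiField θ c) (hθ : θ ∈ K)
    (hspan : ∀ k ∈ K, ∃ α β : F, k = α • 1 + β • θ) {r : ℕ} [Fact r.Prime] (hr : Odd r) (hrp : r ≠ p) {h : ℕ}
    (hi : orderOf (Fintype.card F : ZMod r) = 2 * h) (ho : Odd h) :
    ¬ r ∣ (Cfsg.Geo.subalgebraNormalizer K).relIndex (Cfsg.spGL d F) := by
  classical
  intro hdvd
  have hrP : r.Prime := Fact.out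
  set N := Cfsg.Geo.subalgebraNormalizer K
  set q := Fintype.card F with hq
  have hq1 : 1 ≤ q := Fintype.card_pos
  have hcard : Nat.card ↥(N ⊓ Cfsg.spGL d F) * N.relIndex (Cfsg.spGL d F) = Nat.card ↥(Cfsg.spGL d F) := by
    rw [← Subgroup.inf_relIndex_right]
    have h1 := Subgroup.card_mul_index ((N ⊓ Cfsg.spGL d F).subgroupOf (Cfsg.spGL d F))
    rwa [Nat.card_congr (Subgroup.subgroupOfEquivOfLe inf_le_right).toEquiv] at h1
  have he : Function.Bijective (fun g : Matrix.symplecticGroup (Fin d) F =>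
      (⟨CfsgLib.TensorElusive.glS g, CfsgLib.TensorElusive.glS_mem g⟩ : Cfsg.spGL d F)) := by
    refine ⟨fun g₁ g₂ e => Subtype.ext (congrArg (fun y : Cfsg.spGL d F => (y.1 : M2d)) e), fun g => ?_⟩
    obtain ⟨g₀, hg₀⟩ := CfsgLib.TensorElusive.exists_glS g.2
    exact ⟨g₀, Subtype.ext hg₀⟩
  rw [← Nat.card_eq_of_bijective _ he, Cfsg.Agent.S0245.result rfl] at hcard
  obtain ⟨m, hm⟩ := card_GU_dvd (p := p) A hθ hspan
  rw [hm] at hcard
  set Q := ∏ i ∈ Finset.range d, (if Even i then q ^ (i + 1) + 1 else q ^ (i + 1) - 1)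
  have hsplit : ∏ i ∈ Finset.range d, (q ^ (2 * (i + 1)) - 1) =
      Q * ∏ i ∈ Finset.range d, (if Even i then q ^ (i + 1) - 1 else q ^ (i + 1) + 1) := by
    rw [← Finset.prod_mul_distrib]
    refine Finset.prod_congr rfl fun i _ => ?_
    have h1 : 1 ≤ q ^ (i + 1) := Nat.one_le_pow _ _ hq1
    rw [mul_comm 2, pow_mul, show (q ^ (i + 1)) ^ 2 - 1 = (q ^ (i + 1) + 1) * (q ^ (i + 1) - 1) by
      rw [← Nat.sq_sub_sq, one_pow]]
    split_ifs <;> ring
  have hQ0 : Q ≠ 0 := Finset.prod_ne_zero_iff.mpr fun i _ => by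
    have h1 : q ^ 1 ≤ q ^ (i + 1) := Nat.pow_le_pow_right hq1 (by omega)
    have h2 : 2 ≤ q := Fintype.one_lt_card
    rw [pow_one] at h1
    split_ifs <;> omega
  have hexp : d * (d - 1) / 2 ≤ d ^ 2 :=
    (Nat.div_le_self _ _).trans (by rw [pow_two]; exact Nat.mul_le_mul_left _ (Nat.sub_le _ _))
  obtain ⟨e, he'⟩ : ∃ e, d ^ 2 = d * (d - 1) / 2 + e := ⟨d ^ 2 - d * (d - 1) / 2, by omega⟩
  rw [hsplit, ← hq, he', pow_add] at hcard
  have hdvd' : r ∣ q ^ e * ∏ i ∈ Finset.range d, (if Even i then q ^ (i + 1) - 1 else q ^ (i + 1) + 1) := by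
    refine (mul_dvd_mul_iff_left (mul_ne_zero (pow_ne_zero (d * (d - 1) / 2) (by omega : q ≠ 0)) hQ0)).mp ?_
    rw [show q ^ (d * (d - 1) / 2) * Q * (q ^ e * ∏ i ∈ Finset.range d, (if Even i then q ^ (i + 1) - 1 else q ^ (i + 1) + 1)) =
      q ^ (d * (d - 1) / 2) * q ^ e * (Q * ∏ i ∈ Finset.range d, (if Even i then q ^ (i + 1) - 1 else q ^ (i + 1) + 1)) by ring,
      ← hcard, mul_assoc (q ^ (d * (d - 1) / 2) * Q) m]
    exact mul_dvd_mul_left _ (dvd_mul_of_dvd_right hdvd m)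
  rcases hrP.dvd_mul.mp hdvd' with h1 | h1
  · exact hrp ((CfsgLib.MaxSub.Elusive.dvd_q_iff (F := F) hrP).mp (hrP.dvd_of_dvd_pow h1))
  · obtain ⟨i, -, hi'⟩ := (hrP.prime.dvd_finsetProd_iff _).mp h1
    have hpow : (q : ZMod r) ^ (2 * h) = 1 := by rw [← hi]; exact pow_orderOf_eq_one _
    split_ifs at hi' with hie
    · rw [CfsgLib.PrimeIso.dvd_pow_sub_one_iff, hi] at hi'
      obtain ⟨k, hk⟩ := hie
      obtain ⟨l, hl⟩ := hi'
      rw [mul_assoc] at hl
      omega
    · rw [← ZMod.natCast_eq_zero_iff, Nat.cast_add, Nat.cast_pow, Nat.cast_one] at hi'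
      have h2 : (q : ZMod r) ^ (2 * (i + 1)) = 1 := by
        rw [mul_comm 2, pow_mul, eq_neg_of_add_eq_zero_left hi', neg_one_sq]
      obtain ⟨l, hl⟩ : h ∣ i + 1 := Nat.dvd_of_mul_dvd_mul_left two_pos (hi ▸ orderOf_dvd_of_pow_eq_one h2)
      obtain ⟨k, hk⟩ : Even l := by
        by_contra hlo
        have h3 := (Nat.odd_mul.mpr ⟨ho, Nat.not_even_iff_odd.mp hlo⟩)
        rw [← hl] at h3
        obtain ⟨a, ha⟩ := h3
        exact hie ⟨a, by omega⟩
      rw [hl, hk, ← two_mul, ← mul_assoc, mul_comm h 2, pow_mul, hpow, one_pow] at hi'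
      have h4 : ((2 : ℕ) : ZMod r) = 0 := by push_cast; linear_combination hi'
      rw [ZMod.natCast_eq_zero_iff, Nat.prime_dvd_prime_iff_eq hrP Nat.prime_two] at h4
      obtain ⟨a, ha⟩ := hr
      omega

end CfsgLib.FieldSpElusive
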